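import Groth.Agent.H13Desc.Eff.Lqf
import Groth.Agent.H18Descent.Basic
import Groth.Agent.H12AlgSp.Bootstrap
import Mathlib.AlgebraicGeometry.Morphisms.LocalFlatDescent

/-!
Descent of separated quasi-compact étale schemes along fpqc morphisms.
-/

set_option backward.isDefEq.respectTransparency false
set_option backward.isDefEq.respectTransparency.types false
set_option linter.style.haveILetI false

universe u

open CategoryTheory CategoryTheory.Limits AlgebraicGeometry
open Desc Groth.Agent.H13Desc.Eff

namespace Groth.Agent.LeadDescRad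

theorem isEffective_etale {X S : Scheme.{u}} {p : X ⟶ S} [Flat p] [Surjective p] [QuasiCompact p]
    (D : SchDD p) [QuasiCompact D.obj.hom] [IsSeparated D.obj.hom] [Etale D.obj.hom] :
    ∃ U : Over S, QuasiCompact U.hom ∧ IsSeparated U.hom ∧ Etale U.hom ∧ Nonempty ((toDD p).obj U ≅ D) := by
  have hqa : ∀ {W : Scheme.{u}} (π : W ⟶ X), IsAffine W → (pullback D.obj.hom π).IsQuasiAffine := by
    intro W π hW
    haveI : CompactSpace ↥(pullback D.obj.hom π) :=
      (quasiCompact_iff_compactSpace (pullback.snd D.obj.hom π)).1 inferInstance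
    exact @Groth.Agent.H12AlgSp.isQuasiAffine_of_lqf (pullback D.obj.hom π) W hW this
      (pullback.snd D.obj.hom π) (Groth.Agent.H12AlgSp.lqf_of_etale _) inferInstance inferInstance
  obtain ⟨U, ⟨e⟩⟩ : ∃ U : Over S, Nonempty ((toDD p).obj U ≅ D) := by
    refine isEffective_of_charts fun v => ?_
    obtain ⟨V, hV, hv, -⟩ := TopologicalSpace.Opens.isBasis_iff_nbhd.mp S.isBasis_affineOpens
      (TopologicalSpace.Opens.mem_top ((D.obj.hom ≫ p) v))
    obtain ⟨C, hC⟩ := exists_chart_of_affine_over D hV hqa
    exact ⟨C, hC hv⟩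
  have ht : H18Descent.fpqc p := ⟨⟨inferInstance, inferInstance⟩, inferInstance⟩
  have he : e.hom.hom.left ≫ D.obj.hom = pullback.fst p U.hom := Over.w e.hom.hom
  haveI : MorphismProperty.DescendsAlong @Etale H18Descent.fpqc.{u} :=
    inferInstanceAs (MorphismProperty.DescendsAlong @Etale (@Surjective ⊓ @Flat ⊓ @QuasiCompact))
  refine ⟨U, MorphismProperty.of_pullback_fst_of_descendsAlong (P := @QuasiCompact) (Q := H18Descent.fpqc) ht
      (he ▸ inferInstance),
    MorphismProperty.of_pullback_fst_of_descendsAlong (P := @IsSeparated) (Q := H18Descent.fpqc) ht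
      (he ▸ inferInstance),
    MorphismProperty.of_pullback_fst_of_descendsAlong (P := @Etale) (Q := H18Descent.fpqc) ht
      (he ▸ inferInstance), ⟨e⟩⟩

end Groth.Agent.LeadDescRad
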