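import Groth.Agent.H13Desc.Eff.Lqf
import Mathlib.AlgebraicGeometry.Morphisms.UniversallyInjective

/-!
Every descent datum along a flat surjective quasi-compact radicial morphism is effective.
-/

set_option backward.isDefEq.respectTransparency false
set_option backward.isDefEq.respectTransparency.types false
set_option linter.style.haveILetI false

universe u

open CategoryTheory CategoryTheory.Limits AlgebraicGeometry
open Desc TopologicalSpace Groth.Agent.H13Desc.Eff

namespace Groth.Agent.LeadDescRad

variable {X S : Scheme.{u}} {p : X ⟶ S} (D : SchDD p)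

/-- The gluing maps of a datum along a universally injective morphism are the identity on points. -/
theorem phi_apply [UniversallyInjective p] {T : Scheme.{u}} (x₀ x₁ : T ⟶ X) (h : x₀ ≫ p = x₁ ≫ p)
    (v : Lifts D.obj x₀) (t : T) : (D.φ x₀ x₁ h v).1 t = v.1 t := by
  haveI : Surjective (pullback.diagonal p) :=
    (UniversallyInjective.iff_diagonal p).1 inferInstance
  let d := pullback.lift x₀ x₁ h
  obtain ⟨x, hx⟩ := (pullback.diagonal p).surjective (d t)
  obtain ⟨t', ht', -⟩ := Scheme.Pullback.exists_preimage_pullback (f := d) (g := pullback.diagonal p) t x hx.symm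
  let g := pullback.fst d (pullback.diagonal p)
  have e₀ : g ≫ x₀ = pullback.snd d (pullback.diagonal p) := by
    have := congrArg (· ≫ pullback.fst p p) (pullback.condition (f := d) (g := pullback.diagonal p))
    simpa [d, g] using this
  have e₁ : g ≫ x₁ = pullback.snd d (pullback.diagonal p) := by
    have := congrArg (· ≫ pullback.snd p p) (pullback.condition (f := d) (g := pullback.diagonal p))
    simpa [d, g] using this
  have h' : (g ≫ x₀) ≫ p = (g ≫ x₁) ≫ p := by rw [Category.assoc, Category.assoc, h]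
  have key : g ≫ (D.φ x₀ x₁ h v).1 = g ≫ v.1 :=
    (D.φ_natural g x₀ x₁ h h' v ⟨g ≫ v.1, by rw [Category.assoc, v.2]⟩ rfl).symm.trans
      (phi_self'' D (e₀.trans e₁.symm) h' _)
  rw [← ht', ← Scheme.Hom.comp_apply, ← Scheme.Hom.comp_apply]
  exact congrArg (fun m : _ ⟶ D.obj.left => m t') key

/-- Every open of such a datum is invariant. -/
theorem saturated [UniversallyInjective p] (O : D.obj.left.Opens) : Saturated D O := by
  rintro T x₀ x₁ h v hv _ ⟨t, rfl⟩
  exact (phi_apply D x₀ x₁ h v t).symm ▸ hv ⟨t, rfl⟩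

/-- Descent data along fpqc radicial morphisms are effective. -/
theorem isEffective [Flat p] [Surjective p] [QuasiCompact p] [UniversallyInjective p] :
    ∃ Z : Over S, Nonempty ((toDD p).obj Z ≅ D) := by
  haveI : IsSeparated p := ⟨IsClosedImmersion.of_isPreimmersion _ (by
    haveI : Surjective (pullback.diagonal p) := (UniversallyInjective.iff_diagonal p).1 inferInstance
    rw [(pullback.diagonal p).surjective.range_eq]
    exact isClosed_univ)⟩
  refine isEffective_of_charts fun v => ?_
  obtain ⟨V, hV, hv, -⟩ := exists_isAffineOpen_mem_and_subset (x := (D.obj.hom ≫ p) v) (U := (⊤ : S.Opens)) trivial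
  obtain ⟨O, hO, hvO, hOV⟩ :=
    exists_isAffineOpen_mem_and_subset (x := v) (U := (D.obj.hom ≫ p) ⁻¹ᵁ V) hv
  have hs := saturated D O
  suffices h : ∃ Z : Over S, Nonempty ((toDD p).obj Z ≅ restrict hs) by
    obtain ⟨Z, ⟨e⟩⟩ := h
    obtain ⟨C, hC⟩ := exists_chart_of_restrict hs Z e
    exact ⟨C, hC.ge hvO⟩
  obtain ⟨W, hW, σ, hσs, hσl⟩ := exists_affine_cover_preimage p hV
  have : Flat σ := IsLocalIso.le_of_isZariskiLocalAtSource @Flat _ _ σ hσl
  have : Surjective (p ∣_ V) := IsZariskiLocalAtTarget.restrict ‹Surjective p› V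
  have : MorphismProperty.ContainsIdentities (@LocallyOfFinitePresentation : MorphismProperty Scheme.{u}) :=
    ⟨fun _ => inferInstance⟩
  have : LocallyOfFinitePresentation σ :=
    IsLocalIso.le_of_isZariskiLocalAtSource @LocallyOfFinitePresentation _ _ σ hσl
  haveI : IsAffine O.toScheme := hO
  haveI : IsAffine V.toScheme := hV
  let j := (p ⁻¹ᵁ V).ι
  let f : O.toScheme ⟶ X := O.ι ≫ D.obj.hom
  let f' : O.toScheme ⟶ (p ⁻¹ᵁ V).toScheme := IsOpenImmersion.lift j f (by
    rintro _ ⟨o, rfl⟩
    rw [Scheme.Opens.range_ι]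
    exact hOV o.2)
  have hf : f' ≫ j = f := IsOpenImmersion.lift_fac _ _ _
  haveI : IsSeparated (p ∣_ V) := IsZariskiLocalAtTarget.restrict ‹IsSeparated p› V
  haveI : IsAffineHom (f' ≫ p ∣_ V) := isAffineHom_of_isAffine _
  haveI : IsAffineHom f' := IsAffineHom.of_comp f' (p ∣_ V)
  haveI : IsAffineHom (pullback.snd f' σ) := MorphismProperty.pullback_snd _ _ ‹IsAffineHom f'›
  haveI : IsAffine (pullback f' σ) := isAffine_of_isAffineHom (pullback.snd f' σ)
  have hpb : IsPullback (pullback.fst f' σ) (pullback.snd f' σ) (restrict hs).obj.hom (σ ≫ j) := by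
    show IsPullback _ _ f _
    rw [← hf]
    exact isPullback_postcomp_mono j (IsPullback.of_hasPullback f' σ)
  haveI : IsAffine (pullback (restrict hs).obj.hom (σ ≫ j)) := IsAffine.of_isIso hpb.isoPullback.inv
  haveI : (pullback (restrict hs).obj.hom (σ ≫ j)).IsQuasiAffine := inferInstance
  refine isEffective_of_charts fun a => ?_
  obtain ⟨C, hC⟩ := exists_chart_of_affine (restrict hs) hV (σ ≫ j) (σ ≫ p ∣_ V)
    (by simp only [j, Category.assoc, morphismRestrict_ι]) fun x hx => by
      obtain ⟨w, hw⟩ := σ.surjective (⟨x, hx⟩ : (p ⁻¹ᵁ V).toScheme)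
      exact ⟨w, (Scheme.Hom.comp_apply σ _ w).trans (congrArg _ hw)⟩
  exact ⟨C, hC (hOV a.2)⟩

end Groth.Agent.LeadDescRad
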